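import Mathlib
import Groth.Agent.DiagThreeLib.Sym
import Groth.Agent.GeomIrred.Basic
import Groth.Agent.LinTypeLib.Basic

/-!
# Powers of diagonal ideals in tensor powers of a smooth domain
-/

set_option autoImplicit false
set_option backward.isDefEq.respectTransparency false
set_option linter.unusedSectionVars false
set_option linter.style.haveILetI false

universe u v w

open TensorProduct

noncomputable section

namespace Groth.Agent.DiagPowLib

variable (k : Type u) [Field k] (A : Type u) [CommRing A] [Algebra k A]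

/-- The tensor power. -/
abbrev Pow (n : ℕ) : Type u := ⨂[k] _ : Fin n, A

/-- A factor. -/
def s {n : ℕ} (i : Fin n) : A →ₐ[k] Pow k A n := PiTensorProduct.singleAlgHom (R := k) (A := fun _ : Fin n => A) i

/-- The universal property. -/
def liftN {n : ℕ} {S : Type w} [CommRing S] [Algebra k S] (g : Fin n → (A →ₐ[k] S)) : Pow k A n →ₐ[k] S :=
  PiTensorProduct.liftAlgHom ((MultilinearMap.mkPiAlgebra k (Fin n) S).compLinearMap fun i => (g i).toLinearMap)
    (by simp)
    (fun x y => by simp [Finset.prod_mul_distrib])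

@[simp]
theorem liftN_s {n : ℕ} {S : Type w} [CommRing S] [Algebra k S] (g : Fin n → (A →ₐ[k] S)) (i : Fin n) (a : A) :
    liftN k A g (s k A i a) = g i a := by
  classical
  simp [liftN, s, Pi.mulSingle, Function.update_apply, Finset.prod_ite_eq', apply_ite]

theorem hom_ext {n : ℕ} {S : Type w} [CommRing S] [Algebra k S] {φ ψ : Pow k A n →ₐ[k] S}
    (h : ∀ i a, φ (s k A i a) = ψ (s k A i a)) : φ = ψ :=
  PiTensorProduct.algHom_ext fun i => AlgHom.ext fun a => h i a

/-- Splitting off a factor. -/
def succEquiv (n : ℕ) : Pow k A (n + 1) ≃ₐ[k] A ⊗[k] Pow k A n :=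
  AlgEquiv.ofAlgHom
    (liftN k A (Fin.cons Algebra.TensorProduct.includeLeft
      fun i => Algebra.TensorProduct.includeRight.comp (s k A i)))
    (Algebra.TensorProduct.lift (s k A 0) (liftN k A fun i => s k A i.succ) fun _ _ => Commute.all _ _)
    (Algebra.TensorProduct.ext (AlgHom.ext fun a => by simp)
      (hom_ext k A fun i a => by simp))
    (hom_ext k A fun i a => by
      induction i using Fin.cases <;> simp)

/-- The empty tensor power. -/
def zeroEquiv : Pow k A 0 ≃ₐ[k] k :=
  AlgEquiv.ofAlgHom (liftN k A (fun i => i.elim0)) (Algebra.ofId k _) (Subsingleton.elim _ _)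
    (hom_ext k A fun i => i.elim0)

theorem isDomain_pow [IsAlgClosed k] [IsDomain A] : ∀ n, IsDomain (Pow k A n)
  | 0 => (zeroEquiv k A).toMulEquiv.isDomain
  | n + 1 => by
    haveI := isDomain_pow n
    haveI : IsDomain (A ⊗[k] Pow k A n) := GeomIrred.isDomain_tensor
    exact (succEquiv k A n).toMulEquiv.isDomain

theorem smooth_pow [Algebra.Smooth k A] : ∀ n, Algebra.Smooth k (Pow k A n)
  | 0 => Algebra.Smooth.of_equiv (zeroEquiv k A).symm
  | n + 1 => by
    haveI := smooth_pow n
    haveI : Algebra.Smooth k (A ⊗[k] Pow k A n) := Algebra.Smooth.comp k A _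
    exact Algebra.Smooth.of_equiv (succEquiv k A n).symm

/-- The diagonal ideal. -/
def diag {n : ℕ} (i j : Fin n) : Ideal (Pow k A n) :=
  Ideal.span (Set.range fun a : A => s k A i a - s k A j a)

theorem diag_le_ker {n : ℕ} {S : Type w} [CommRing S] [Algebra k S] (g : Fin n → (A →ₐ[k] S)) (i j : Fin n)
    (h : g i = g j) : diag k A i j ≤ RingHom.ker (liftN k A g) := by
  rw [diag, Ideal.span_le]
  rintro _ ⟨a, rfl⟩
  simp [h]

/-- The quotient by a diagonal ideal is a tensor power. -/
theorem exists_quot_equiv {m : ℕ} (i j : Fin (m + 1)) (hij : i ≠ j) :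
    Nonempty ((Pow k A (m + 1) ⧸ diag k A i j) ≃ₐ[k] Pow k A m) := by
  classical
  let e : Fin m ≃ {x : Fin (m + 1) // x ≠ j} := finSuccAboveEquiv j
  let c : Fin (m + 1) → Fin m := fun l => if h : l = j then e.symm ⟨i, hij⟩ else e.symm ⟨l, h⟩
  let π : Pow k A (m + 1) →ₐ[k] Pow k A m := liftN k A fun l => s k A (c l)
  let σ : Pow k A m →ₐ[k] Pow k A (m + 1) := liftN k A fun l => s k A (e l).1
  have hπσ : π.comp σ = AlgHom.id k _ := hom_ext k A fun l a => by
    simp [π, σ, c, (e l).2]
  have hsur : Function.Surjective π := fun y => ⟨σ y, AlgHom.congr_fun hπσ y⟩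
  have hker : RingHom.ker π = diag k A i j := by
    refine le_antisymm (fun x hx => ?_) (diag_le_ker k A _ i j ?_)
    · have h1 : (Ideal.Quotient.mkₐ k (diag k A i j)).comp (σ.comp π) = Ideal.Quotient.mkₐ k (diag k A i j) :=
        hom_ext k A fun l a => by
          by_cases h : l = j
          · subst h
            simp only [AlgHom.comp_apply, π, liftN_s, σ, c, dite_true, Equiv.apply_symm_apply,
              Ideal.Quotient.mkₐ_eq_mk, Ideal.Quotient.eq]
            exact Ideal.subset_span ⟨a, rfl⟩
          · simp [π, σ, c, h]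
      have h2 := AlgHom.congr_fun h1 x
      rw [AlgHom.comp_apply, AlgHom.comp_apply, (RingHom.mem_ker).1 hx, map_zero, map_zero] at h2
      exact Ideal.Quotient.eq_zero_iff_mem.1 h2.symm
    · simp [c, hij]
  exact ⟨(Ideal.quotientEquivAlgOfEq k hker.symm).trans (Ideal.quotientKerAlgEquivOfSurjective hsur)⟩

variable [Algebra.Smooth k A]

/-- Elements outside a smooth prime ideal are regular modulo its powers. -/
theorem mem_pow_of_mul_mem {R : Type u} [CommRing R] [Algebra k R] [Algebra.Smooth k R] (J : Ideal R) [J.IsPrime]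
    (B : Type u) [CommRing B] [Algebra k B] [Algebra.Smooth k B] (e : (R ⧸ J) ≃ₐ[k] B) {z : R} (hz : z ∉ J)
    (l : ℕ) {y : R} (hy : z * y ∈ J ^ l) : y ∈ J ^ l := by
  refine Ideal.mem_of_localization_maximal fun p _ => ?_
  let L := Localization.AtPrime p
  rw [Ideal.map_pow]
  by_cases hJp : J ≤ p
  swap
  · obtain ⟨x, hx, hxp⟩ := SetLike.not_le_iff_exists.mp hJp
    have htop : J.map (algebraMap R L) = ⊤ := Ideal.eq_top_of_isUnit_mem _ (Ideal.mem_map_of_mem _ hx)
      (IsLocalization.map_units L (⟨x, hxp⟩ : p.primeCompl))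
    rw [htop, Ideal.top_pow]
    trivial
  haveI hL : IsRegularLocalRing L := DiagThreeLib.isRegularLocalRing_of_smooth k _ p
  haveI : Algebra.Smooth k (R ⧸ J) := Algebra.Smooth.of_equiv e.symm
  let pB : Ideal (R ⧸ J) := p.map (Ideal.Quotient.mk J)
  haveI : pB.IsPrime := Ideal.map_isPrime_of_surjective Ideal.Quotient.mk_surjective (by rwa [Ideal.mk_ker])
  haveI hB : IsRegularLocalRing (Localization.AtPrime pB) := DiagThreeLib.isRegularLocalRing_of_smooth k (R ⧸ J) pB
  have hM : Algebra.algebraMapSubmonoid (R ⧸ J) p.primeCompl = pB.primeCompl := by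
    ext b
    obtain ⟨a, rfl⟩ := Ideal.Quotient.mk_surjective b
    constructor
    · rintro ⟨a', ha', h⟩
      rw [Ideal.mem_primeCompl_iff, Ideal.mem_map_iff_of_surjective _ Ideal.Quotient.mk_surjective]
      rintro ⟨c, hc, hca⟩
      refine ha' ?_
      have : c - a' ∈ J := Ideal.Quotient.eq.mp (hca.trans h.symm)
      simpa using p.sub_mem hc (hJp this)
    · intro h
      exact ⟨a, fun ha => h (Ideal.mem_map_of_mem _ ha), rfl⟩
  haveI : IsLocalization pB.primeCompl (L ⧸ J.map (algebraMap R L)) := hM ▸ inferInstance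
  haveI : IsRegularLocalRing (L ⧸ J.map (algebraMap R L)) :=
    IsRegularLocalRing.of_ringEquiv (R := Localization.AtPrime pB) (IsLocalization.algEquiv pB.primeCompl
      (Localization.AtPrime pB) (L ⧸ J.map (algebraMap R L))).toRingEquiv
  obtain ⟨n, f, hf, hspan⟩ := CotTLib.exists_regFam_of_quot_regular (J.map (algebraMap R L))
  rw [← hspan]
  refine LinTypeLib.mem_pow_of_mul_mem f (LinTypeLib.mem_kos f hf) (algebraMap R L z) (fun w hw => ?_) l _ ?_
  · rw [hspan] at hw ⊢
    have hdis : Disjoint (p.primeCompl : Set R) (J : Set R) :=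
      Set.disjoint_left.2 fun x hx hxJ => hx (hJp hxJ)
    haveI := IsLocalization.isPrime_of_isPrime_disjoint p.primeCompl L J inferInstance hdis
    refine (Ideal.IsPrime.mem_or_mem inferInstance hw).resolve_left fun h => hz ?_
    rw [← IsLocalization.under_map_of_isPrime_disjoint p.primeCompl L (I := J) inferInstance hdis]
    exact h
  · rw [hspan, ← Ideal.map_pow, ← map_mul]
    exact Ideal.mem_map_of_mem _ hy

omit [Algebra.Smooth k A] in
/-- A two-dimensional affine domain over an algebraically closed field has many points. -/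
theorem exists_points [IsAlgClosed k] [IsDomain A] [Algebra.FiniteType k A] (hdim : 1 ≤ ringKrullDim A) (n : ℕ) :
    ∃ x : Fin n → (A →ₐ[k] k), Function.Injective x := by
  haveI : IsJacobsonRing A := isJacobsonRing_of_finiteType (A := k)
  have hinf : Infinite (MaximalSpectrum A) := by
    by_contra hcon
    rw [not_infinite_iff_finite] at hcon
    haveI := Fintype.ofFinite (MaximalSpectrum A)
    have h0 : (⊥ : Ideal A).jacobson = ⊥ := IsJacobsonRing.out inferInstance Ideal.isPrime_bot.isRadical
    have hle : (Finset.univ.inf fun m : MaximalSpectrum A => m.asIdeal) ≤ (⊥ : Ideal A) := by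
      intro x hx
      rw [← h0, Ideal.jacobson, Submodule.mem_sInf]
      rintro m ⟨-, hm⟩
      exact (Finset.inf_le (f := fun m : MaximalSpectrum A => m.asIdeal) (Finset.mem_univ ⟨m, hm⟩)) hx
    obtain ⟨m, -, hm⟩ := (Ideal.IsPrime.inf_le' Ideal.isPrime_bot).1 hle
    have hfield : IsField A := Ring.isField_iff_maximal_bot.2 (le_bot_iff.1 hm ▸ m.isMaximal)
    rw [ringKrullDim_eq_zero_of_isField hfield] at hdim
    exact absurd hdim (by decide)
  have hpt : ∀ m : MaximalSpectrum A, ∃ φ : A →ₐ[k] k, RingHom.ker φ = m.asIdeal := fun m => by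
    letI := Ideal.Quotient.field m.asIdeal
    haveI : Algebra.FiniteType k (A ⧸ m.asIdeal) := Algebra.FiniteType.trans (S := A) inferInstance inferInstance
    haveI : Module.Finite k (A ⧸ m.asIdeal) := finite_of_finite_type_of_isJacobsonRing k (A ⧸ m.asIdeal)
    haveI : Algebra.IsIntegral k (A ⧸ m.asIdeal) := Algebra.IsIntegral.of_finite k _
    let e : k ≃ₐ[k] A ⧸ m.asIdeal := AlgEquiv.ofBijective (Algebra.ofId k _)
      IsAlgClosed.algebraMap_bijective_of_isIntegral
    refine ⟨e.symm.toAlgHom.comp (Ideal.Quotient.mkₐ k m.asIdeal), ?_⟩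
    ext a
    simp [RingHom.mem_ker, Ideal.Quotient.eq_zero_iff_mem]
  choose φ hφ using hpt
  refine ⟨fun i => φ (Infinite.natEmbedding _ i.val), fun i i' h => ?_⟩
  have := congrArg (fun ψ : A →ₐ[k] k => RingHom.ker ψ) h
  simp only [hφ] at this
  exact Fin.ext ((Infinite.natEmbedding _).injective (MaximalSpectrum.ext this))

end Groth.Agent.DiagPowLib
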